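import Groth.Agent.L05.SepResidueSol.Valuation
import Groth.Agent.L05.UnramBaseChange.Main
import Mathlib.RingTheory.SimpleModule.Basic

/-!
A valuation ring receiving a ring which is semisimple modulo one element, with generated fraction field, has this
element as a uniformizer.
-/

set_option autoImplicit false
set_option linter.style.haveILetI false
set_option maxSynthPendingDepth 3

universe u

open IsLocalRing

namespace Groth.L05.Abhyankar

theorem local_data {M : Type u} [Field M] (W : ValuationSubring M) {R : Type u} [CommRing R] (ψ : R →+* W) (P : R)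
    (hP0 : ψ P ≠ 0) (hPu : ¬ IsUnit (ψ P)) (hsep : ∀ x : W, x ≠ 0 → ∃ N : ℕ, x ∣ ψ P ^ N)
    [IsSemisimpleRing (R ⧸ Ideal.span {P})]
    (hgen : ∀ x : M, x ∈ Subfield.closure ((W.subtype.comp ψ).range : Set M)) :
    maximalIdeal W = Ideal.span {ψ P} ∧
      ∀ y : ResidueField W, ∃ r s : R, residue W (ψ s) ≠ 0 ∧ y * residue W (ψ s) = residue W (ψ r) := by
  classical
  let Q := (maximalIdeal W).comap ψ
  have hPQ : P ∈ Q := (mem_maximalIdeal (ψ P)).mpr hPu
  let mkP := Ideal.Quotient.mk (Ideal.span {P})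
  obtain ⟨q, hq, hQq⟩ := IsSemisimpleRing.ideal_eq_span_idempotent (Q.map mkP)
  obtain ⟨q, rfl⟩ := Ideal.Quotient.mk_surjective q
  have hqQ : q ∈ Q := by
    have h : q ∈ (Q.map mkP).comap mkP := by
      rw [Ideal.mem_comap, hQq]; exact Ideal.mem_span_singleton_self _
    rw [Ideal.comap_map_of_surjective' _ Ideal.Quotient.mk_surjective, Ideal.mk_ker] at h
    exact (sup_le le_rfl ((Ideal.span_singleton_le_iff_mem Q).mpr hPQ) :) h
  let RQ := Localization.AtPrime Q
  let p := algebraMap R RQ P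
  have hmaxQ : maximalIdeal RQ = Ideal.span {p} := by
    refine le_antisymm ?_ ((Ideal.span_singleton_le_iff_mem _).mpr ?_)
    · rw [← Localization.AtPrime.map_eq_maximalIdeal, Ideal.map_le_iff_le_comap]
      intro x hx
      have h1 : mkP x ∈ Ideal.span {mkP q} := hQq ▸ Ideal.mem_map_of_mem _ hx
      obtain ⟨c, hc⟩ := Ideal.mem_span_singleton.mp h1
      obtain ⟨c, rfl⟩ := Ideal.Quotient.mk_surjective c
      rw [← map_mul, Ideal.Quotient.eq, Ideal.mem_span_singleton] at hc
      obtain ⟨d, hd⟩ := hc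
      have h2 : mkP (q * (1 - q)) = 0 := by rw [map_mul, map_sub, map_one, mul_sub, mul_one, hq.eq, sub_self]
      obtain ⟨d', hd'⟩ := Ideal.mem_span_singleton.mp (Ideal.Quotient.eq_zero_iff_mem.mp h2)
      have hu : IsUnit (algebraMap R RQ (1 - q)) := IsLocalization.map_units (M := Q.primeCompl) RQ
        ⟨1 - q, fun h => (inferInstance : Q.IsPrime).ne_top ((Ideal.eq_top_iff_one _).mpr (by
          simpa using Q.add_mem h hqQ))⟩
      obtain ⟨w, hw'⟩ := hu
      have hqp : algebraMap R RQ q = p * (algebraMap R RQ d' * (w⁻¹ : RQˣ)) := by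
        rw [← mul_assoc, ← map_mul, ← hd', map_mul, ← hw', mul_assoc, Units.mul_inv, mul_one]
      rw [Ideal.mem_comap, Ideal.mem_span_singleton, show x = q * c + P * d by rw [← hd]; ring, map_add, map_mul,
        map_mul, hqp]
      exact dvd_add (dvd_mul_of_dvd_left (dvd_mul_right _ _) _) (dvd_mul_right _ _)
    · rw [← Localization.AtPrime.map_eq_maximalIdeal]
      exact Ideal.mem_map_of_mem _ hPQ
  let φ : RQ →+* W := IsLocalization.lift (M := Q.primeCompl) (g := ψ) fun s => by
    by_contra h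
    exact s.2 ((mem_maximalIdeal _).mpr h)
  have hφ : ∀ r : R, φ (algebraMap R RQ r) = ψ r := IsLocalization.lift_eq _
  haveI hφloc : IsLocalHom φ := by
    refine ⟨fun t ht => ?_⟩
    obtain ⟨a, s, rfl⟩ := IsLocalization.exists_mk'_eq Q.primeCompl t
    rw [IsLocalization.AtPrime.isUnit_mk'_iff]
    intro ha
    have h1 : φ (IsLocalization.mk' RQ a s) * φ (algebraMap R RQ s) = ψ a := by
      rw [← map_mul, IsLocalization.mk'_spec, hφ]
    exact (mem_maximalIdeal _).mp ha (h1 ▸ ht.mul ((IsLocalization.map_units RQ s).map φ) : IsUnit (ψ a))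
  let T := RQ ⧸ RingHom.ker φ
  haveI : (RingHom.ker φ).IsPrime := RingHom.ker_isPrime φ
  haveI : IsLocalRing T := IsLocalRing.of_surjective' _ Ideal.Quotient.mk_surjective
  let φT : T →+* W := Ideal.Quotient.lift _ φ fun a ha => ha
  let pT := Ideal.Quotient.mk (RingHom.ker φ) p
  have hmaxT : maximalIdeal T = Ideal.span {pT} := by
    rw [← IsLocalRing.map_maximalIdeal_of_surjective _ Ideal.Quotient.mk_surjective, hmaxQ, Ideal.map_span,
      Set.image_singleton]
  have hφp : φT pT = ψ P := hφ P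
  have hφTinj : Function.Injective φT := RingHom.kerLift_injective φ
  haveI : IsDiscreteValuationRing T := by
    refine Groth.L05.SepResidueSol.dvr_of_principal pT (fun h => hP0 (by rw [← hφp, h, map_zero])) hmaxT
      fun x hx => ?_
    obtain ⟨N, hN⟩ := hsep (φT x) fun h => hx (hφTinj (by rw [h, map_zero]))
    refine ⟨N + 1, fun h => ?_⟩
    have h3 := (map_dvd φT h).trans hN
    rw [map_pow, hφp, pow_succ] at h3
    exact hPu (isUnit_of_dvd_one ((mul_dvd_mul_iff_left (pow_ne_zero N hP0)).mp (by rwa [mul_one])))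
  haveI : IsLocalHom φT := ⟨fun t ht => by
    obtain ⟨r, rfl⟩ := Ideal.Quotient.mk_surjective t
    exact (isUnit_of_map_unit φ r ht).map _⟩
  have hsurjT : Function.Surjective φT := by
    refine Groth.L05.UnramBaseChange.surjective_of_local W φT fun x => ?_
    obtain ⟨y, hy, z, hz, hyz⟩ := Subfield.mem_closure_iff.mp (hgen x)
    rw [Subring.closure_eq] at hy hz
    obtain ⟨a, rfl⟩ := hy
    obtain ⟨b, rfl⟩ := hz
    have hlift : ∀ r : R, (φT (Ideal.Quotient.mk _ (algebraMap R RQ r)) : M) = W.subtype.comp ψ r := fun r =>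
      congrArg Subtype.val (hφ r)
    by_cases hb : W.subtype.comp ψ b = 0
    · refine ⟨0, 1, by simp, ?_⟩
      rw [← hyz, hb]
      simp
    · refine ⟨Ideal.Quotient.mk _ (algebraMap R RQ a), Ideal.Quotient.mk _ (algebraMap R RQ b), ?_, ?_⟩
      · rw [hlift]; exact hb
      · rw [hlift, hlift, ← hyz]; exact div_mul_cancel₀ _ hb
  refine ⟨?_, fun y => ?_⟩
  · rw [← IsLocalRing.map_maximalIdeal_of_surjective φT hsurjT, hmaxT, Ideal.map_span, Set.image_singleton, hφp]
  · obtain ⟨y, rfl⟩ := residue_surjective y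
    obtain ⟨t, rfl⟩ := hsurjT y
    obtain ⟨t, rfl⟩ := Ideal.Quotient.mk_surjective t
    obtain ⟨r, s, rfl⟩ := IsLocalization.exists_mk'_eq Q.primeCompl t
    refine ⟨r, s, fun h => s.2 ((residue_eq_zero_iff (ψ s)).mp h), ?_⟩
    rw [← map_mul]
    refine congrArg (residue W) ?_
    show φ (IsLocalization.mk' RQ r s) * ψ s = ψ r
    rw [← hφ, ← hφ, ← map_mul, IsLocalization.mk'_spec]

end Groth.L05.Abhyankar
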