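import Groth.Agent.L05.Abhyankar.RootAlgebra
import Groth.Agent.L05.Abhyankar.LocalData
import Groth.Agent.L05.TameTower.Main

/-!
Abhyankar's lemma.
-/

set_option autoImplicit false
set_option linter.style.haveILetI false
set_option maxSynthPendingDepth 3

universe u

open IsLocalRing Polynomial
open scoped TensorProduct

namespace Groth.L05.Abhyankar

open EtRam

theorem abhyankar (A B K L : Type u) [CommRing A] [IsDomain A] [IsDiscreteValuationRing A]
    [CommRing B] [IsDomain B] [IsDiscreteValuationRing B] [Algebra A B] [IsLocalHom (algebraMap A B)]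
    (hinj : Function.Injective (algebraMap A B))
    [Field K] [Field L] [Algebra A K] [IsFractionRing A K] [Algebra B L] [IsFractionRing B L]
    [Algebra K L] [Algebra A L] [IsScalarTower A K L] [IsScalarTower A B L]
    (htame : CharZero (IsLocalRing.ResidueField A) ∨
      ∃ p : ℕ, p.Prime ∧ CharP (IsLocalRing.ResidueField A) p ∧
        ¬ p ∣ Ideal.ramificationIdx' (IsLocalRing.maximalIdeal A) (IsLocalRing.maximalIdeal B) ∧
        Algebra.IsGeometricallyReduced (IsLocalRing.ResidueField A) (IsLocalRing.ResidueField B))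
    (K₁ : Type u) [Field K₁] [Algebra K K₁] [FiniteDimensional K K₁] :
    EtRam.ForallLocalExt B K L K₁ (fun M _ W f =>
      ∀ hA : ∀ a : A, (algebraMap K K₁) (algebraMap A K a) ∈ W.comap f,
        letI : Algebra A (W.comap f) := (RingHom.codRestrict ((algebraMap K K₁).comp (algebraMap A K)) (W.comap f) hA).toAlgebra
        letI : Algebra (W.comap f) W := (EtRam.inclOfComap W f).toAlgebra
        Ideal.ramificationIdx' (IsLocalRing.maximalIdeal A) (IsLocalRing.maximalIdeal B) ∣
          Ideal.ramificationIdx' (IsLocalRing.maximalIdeal A) (IsLocalRing.maximalIdeal (W.comap f)) →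
        EtRam.IsWeaklyUnramified (W.comap f) W ∧
          @Algebra.IsGeometricallyReduced (IsLocalRing.ResidueField (W.comap f)) (IsLocalRing.ResidueField W) _ _
            (IsLocalRing.ResidueField.map (EtRam.inclOfComap W f)).toAlgebra) := by
  intro M _ _ _ _ _ _ hgen W hW hA0
  let f := algebraMap K₁ M
  let V₁ := W.comap f
  letI : Algebra A V₁ := (RingHom.codRestrict ((algebraMap K K₁).comp (algebraMap A K)) V₁ hA0).toAlgebra
  letI : Algebra V₁ W := (EtRam.inclOfComap W f).toAlgebra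
  intro hdvd
  let kA := ResidueField A
  haveI hgr : Algebra.IsGeometricallyReduced (ResidueField A) (ResidueField B) := by
    rcases htame with h | ⟨p, -, -, -, h⟩
    · haveI := h; exact geomReduced_of_charZero _ _
    · exact h
  haveI : FiniteDimensional L M := by
    let q : L ⊗[K] K₁ →ₐ[L] M :=
      Algebra.TensorProduct.lift (Algebra.ofId L M) (IsScalarTower.toAlgHom K K₁ M) fun _ _ => Commute.all _ _
    refine Module.Finite.of_surjective q.toLinearMap fun x => ?_
    have hle : Algebra.adjoin L (Set.range f) ≤ q.range := Algebra.adjoin_le fun _ ⟨y, hy⟩ =>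
      ⟨1 ⊗ₜ y, by simp [q, ← hy, f]⟩
    exact hle (hgen ▸ Algebra.mem_top)
  letI : Algebra B M := ((algebraMap L M).comp (algebraMap B L)).toAlgebra
  haveI : IsScalarTower B L M := IsScalarTower.of_algebraMap_eq fun _ => rfl
  letI : Algebra B W := (RingHom.codRestrict (algebraMap B M) W hW.1).toAlgebra
  haveI : IsScalarTower B W M := IsScalarTower.of_algebraMap_eq fun _ => rfl
  haveI : IsLocalHom (algebraMap B W) := Groth.L05.TameTower.isLocalHom_codRestrict _ W hW
  letI : Algebra A K₁ := ((algebraMap K K₁).comp (algebraMap A K)).toAlgebra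
  haveI : IsScalarTower A K K₁ := IsScalarTower.of_algebraMap_eq fun _ => rfl
  haveI : IsScalarTower A V₁ K₁ := IsScalarTower.of_algebraMap_eq fun _ => rfl
  have hA : ∀ a : A, f (algebraMap A K₁ a) = algebraMap B M (algebraMap A B a) := fun a => by
    show algebraMap K₁ M (algebraMap K K₁ (algebraMap A K a)) = algebraMap L M (algebraMap B L (algebraMap A B a))
    rw [← IsScalarTower.algebraMap_apply K K₁ M, ← IsScalarTower.algebraMap_apply A B L,
      IsScalarTower.algebraMap_apply A K L, ← IsScalarTower.algebraMap_apply K L M]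
  letI : Algebra A W := ((algebraMap B W).comp (algebraMap A B)).toAlgebra
  haveI : IsScalarTower A B W := IsScalarTower.of_algebraMap_eq fun _ => rfl
  let ι' : V₁ →ₐ[A] W := { inclOfComap W f with commutes' := fun a => Subtype.ext (hA a) }
  haveI : IsLocalHom (algebraMap A V₁) := ⟨fun a ha => by
    have h1 := ha.map ι'
    rw [ι'.commutes, IsScalarTower.algebraMap_apply A B W] at h1
    exact isUnit_of_map_unit (algebraMap A B) a (isUnit_of_map_unit (algebraMap B W) _ h1)⟩
  obtain ⟨hdV, -⟩ := Groth.L05.SepResidueSol.isDiscreteValuationRing_of_finite A K V₁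
  obtain ⟨hdW, hsepW⟩ := Groth.L05.SepResidueSol.isDiscreteValuationRing_of_finite B L W
  haveI := hdV
  haveI : Module.Finite (ResidueField A) (ResidueField V₁) := Groth.L05.SepResidueSol.finite_residueField A K V₁
  obtain ⟨π, hπ⟩ := IsDiscreteValuationRing.exists_irreducible A
  obtain ⟨ϖ, hϖ⟩ := IsDiscreteValuationRing.exists_irreducible V₁
  obtain ⟨ρ, hρ⟩ := IsDiscreteValuationRing.exists_irreducible B
  have hinjV : Function.Injective (algebraMap A V₁) := fun a a' h =>
    IsFractionRing.injective A K ((algebraMap K K₁).injective (congrArg Subtype.val h))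
  have hAB := Groth.L05.TameTower.map_eq_pow_idx A B hinj
  have hAV := Groth.L05.TameTower.map_eq_pow_idx A V₁ hinjV
  generalize hedef : Ideal.ramificationIdx' (maximalIdeal A) (maximalIdeal B) = e at hdvd htame hAB
  generalize Ideal.ramificationIdx' (maximalIdeal A) (maximalIdeal V₁) = e₁ at hdvd hAV
  obtain ⟨d, rfl⟩ := hdvd
  rw [hπ.maximalIdeal_eq, hρ.maximalIdeal_eq, Ideal.map_span, Set.image_singleton, Ideal.span_singleton_pow,
    Ideal.span_singleton_eq_span_singleton] at hAB
  rw [hπ.maximalIdeal_eq, hϖ.maximalIdeal_eq, Ideal.map_span, Set.image_singleton, Ideal.span_singleton_pow,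
    Ideal.span_singleton_eq_span_singleton] at hAV
  have he0 : e ≠ 0 := fun h => hπ.not_isUnit ((isUnit_map_iff (algebraMap A B) π).mp
    (hAB.symm.isUnit (by rw [h, pow_zero]; exact isUnit_one)))
  have hd0 : d ≠ 0 := fun h => hπ.not_isUnit ((isUnit_map_iff (algebraMap A V₁) π).mp
    (hAV.symm.isUnit (by rw [h, mul_zero, pow_zero]; exact isUnit_one)))
  have he : (e : ResidueField A) ≠ 0 := by
    rcases htame with h | ⟨p, -, hc, hp, -⟩
    · haveI := h; exact_mod_cast he0
    · haveI := hc; exact fun h => hp ((CharP.cast_eq_zero_iff _ p e).mp h)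
  obtain ⟨uB, huB⟩ := hAB.symm
  obtain ⟨u₁, hu₁⟩ := hAV.symm
  -- the root `t = ρ / ϖ ^ d`
  let ρW : W := algebraMap B W ρ
  let σW : W := ι' (ϖ ^ d)
  have hπW : algebraMap A W π = ρW ^ e * algebraMap B W uB ∧ algebraMap A W π = σW ^ e * ι' u₁ := by
    constructor
    · rw [IsScalarTower.algebraMap_apply A B W, ← huB, map_mul, map_pow]
    · rw [← ι'.commutes, ← hu₁, map_mul]
      show ι' (ϖ ^ (e * d)) * _ = ι' (ϖ ^ d) ^ e * _
      rw [← map_pow, ← pow_mul, mul_comm d e]
  have hι'inj : Function.Injective ι' := fun x y h => Subtype.ext (f.injective (congrArg Subtype.val h))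
  have hσ0 : σW ≠ 0 := (map_ne_zero_iff ι' hι'inj).mpr (pow_ne_zero _ hϖ.ne_zero)
  haveI := hdW
  obtain ⟨t, ht⟩ : σW ∣ ρW := by
    refine (IsIntegrallyClosed.pow_dvd_pow_iff he0).mp ?_
    exact ⟨ι' u₁ * algebraMap B W ((uB⁻¹ : Bˣ) : B), by
      rw [← mul_assoc, ← hπW.2, hπW.1, mul_assoc, ← map_mul, Units.mul_inv, map_one, mul_one]⟩
  let c₀ : B ⊗[A] V₁ := ((uB⁻¹ : Bˣ) : B) ⊗ₜ (u₁ : V₁)
  have hte : t ^ e = algebraMap B W ((uB⁻¹ : Bˣ) : B) * ι' u₁ := by
    refine mul_left_cancel₀ (pow_ne_zero e hσ0) ?_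
    rw [← mul_pow, ← ht, mul_left_comm, ← hπW.2, hπW.1, mul_comm (algebraMap B W _), mul_assoc, ← map_mul,
      Units.mul_inv, map_one, mul_one]
  -- the ring
  let R₀ := B ⊗[A] V₁
  let ψ₀ : R₀ →ₐ[B] W := Algebra.TensorProduct.lift (Algebra.ofId B W) ι' fun _ _ => Commute.all _ _
  have hψ₀ : ∀ b v, ψ₀ (b ⊗ₜ v) = algebraMap B W b * ι' v := fun b v => by
    show Algebra.TensorProduct.lift _ _ _ _ = _
    rw [Algebra.TensorProduct.lift_tmul]
    rfl
  let r₁ : R₀[X] := X ^ e - C c₀
  let r₂ : R₀[X] := C (ρ ⊗ₜ[A] (1 : V₁)) - X * C ((1 : B) ⊗ₜ[A] (ϖ ^ d))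
  let J : Ideal R₀[X] := Ideal.span {r₁, r₂}
  let ev : R₀[X] →+* W := eval₂RingHom ψ₀.toRingHom t
  have hJ : ∀ x ∈ J, ev x = 0 := by
    have : J ≤ RingHom.ker ev := by
      rw [Ideal.span_le]
      rintro x (rfl | rfl)
      · show eval₂ ψ₀.toRingHom t (X ^ e - C c₀) = 0
        rw [eval₂_sub, eval₂_X_pow, eval₂_C]
        show t ^ e - ψ₀ c₀ = 0
        rw [hψ₀, hte, sub_self]
      · show eval₂ ψ₀.toRingHom t (C (ρ ⊗ₜ[A] (1 : V₁)) - X * C ((1 : B) ⊗ₜ[A] (ϖ ^ d))) = 0
        rw [eval₂_sub, eval₂_mul, eval₂_X, eval₂_C, eval₂_C]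
        show ψ₀ _ - t * ψ₀ _ = 0
        rw [hψ₀, hψ₀, map_one, map_one, mul_one, one_mul, sub_eq_zero, mul_comm]
        exact ht
    exact this
  let R := R₀[X] ⧸ J
  let ψ : R →+* W := Ideal.Quotient.lift J ev hJ
  let ofR : R₀ →+* R := (Ideal.Quotient.mk J).comp C
  have hψof : ∀ x, ψ (ofR x) = ψ₀ x := fun x => eval₂_C _ _
  let P : R := ofR (1 ⊗ₜ ϖ)
  have hψP : ψ P = ι' ϖ := by rw [hψof, hψ₀, map_one, one_mul]
  let mkP := Ideal.Quotient.mk (Ideal.span {P})
  let Rb := R ⧸ Ideal.span {P}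
  let q : R₀ →+* Rb := mkP.comp ofR
  have hqϖ : ∀ v ∈ maximalIdeal V₁, q ((1 : B) ⊗ₜ[A] v) = 0 := fun v hv => by
    rw [hϖ.maximalIdeal_eq, Ideal.mem_span_singleton] at hv
    obtain ⟨w, rfl⟩ := hv
    rw [show (1 : B) ⊗ₜ[A] (ϖ * w) = (1 ⊗ₜ ϖ) * (1 ⊗ₜ w) by simp, map_mul]
    rw [show q (1 ⊗ₜ ϖ) = 0 from Ideal.Quotient.eq_zero_iff_mem.mpr (Ideal.mem_span_singleton_self _), zero_mul]
  have hqρ : ∀ b ∈ maximalIdeal B, q (b ⊗ₜ[A] (1 : V₁)) = 0 := fun b hb => by
    rw [hρ.maximalIdeal_eq, Ideal.mem_span_singleton] at hb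
    obtain ⟨w, rfl⟩ := hb
    rw [show (ρ * w) ⊗ₜ[A] (1 : V₁) = (ρ ⊗ₜ 1) * (w ⊗ₜ 1) by simp, map_mul]
    have h2 : Ideal.Quotient.mk J r₂ = 0 := Ideal.Quotient.eq_zero_iff_mem.mpr (Ideal.subset_span (Or.inr rfl))
    rw [map_sub, map_mul, sub_eq_zero] at h2
    have h3 : q (ρ ⊗ₜ 1) = mkP (Ideal.Quotient.mk J X) * q (1 ⊗ₜ (ϖ ^ d)) := (congrArg mkP h2).trans (map_mul mkP _ _)
    have h4 : ϖ ^ d ∈ maximalIdeal V₁ := Ideal.pow_mem_of_mem _ ((mem_maximalIdeal _).mpr hϖ.not_isUnit) d
      (Nat.pos_of_ne_zero hd0)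
    rw [h3, hqϖ _ h4, mul_zero, zero_mul]
  let g₁ : ResidueField V₁ →+* Rb :=
    Ideal.Quotient.lift (maximalIdeal V₁) (q.comp (Algebra.TensorProduct.includeRight : V₁ →ₐ[A] R₀).toRingHom) hqϖ
  let g₂ : ResidueField B →+* Rb :=
    Ideal.Quotient.lift (maximalIdeal B) (q.comp Algebra.TensorProduct.includeLeftRingHom) hqρ
  letI : Algebra (ResidueField A) Rb := (g₁.comp (algebraMap (ResidueField A) (ResidueField V₁))).toAlgebra
  let G₁ : ResidueField V₁ →ₐ[ResidueField A] Rb := { g₁ with commutes' := fun _ => rfl }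
  let G₂ : ResidueField B →ₐ[ResidueField A] Rb := { g₂ with
    commutes' := fun c => by
      obtain ⟨a, rfl⟩ := residue_surjective c
      show q (algebraMap A B a ⊗ₜ 1) = q (1 ⊗ₜ algebraMap A V₁ a)
      rw [Algebra.algebraMap_eq_smul_one, Algebra.algebraMap_eq_smul_one, TensorProduct.smul_tmul] }
  let G : ResidueField V₁ ⊗[ResidueField A] ResidueField B →ₐ[ResidueField A] Rb :=
    Algebra.TensorProduct.lift G₁ G₂ fun _ _ => Commute.all _ _
  have hG : ∀ b v, G (residue V₁ v ⊗ₜ residue B b) = q (b ⊗ₜ v) := fun b v => by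
    show Algebra.TensorProduct.lift _ _ _ _ = _
    rw [Algebra.TensorProduct.lift_tmul]
    show q (1 ⊗ₜ v) * q (b ⊗ₜ 1) = _
    rw [← map_mul, Algebra.TensorProduct.tmul_mul_tmul, one_mul, mul_one]
  let c : ResidueField V₁ ⊗[ResidueField A] ResidueField B :=
    residue V₁ (u₁ : V₁) ⊗ₜ residue B ((uB⁻¹ : Bˣ) : B)
  have hc : IsUnit c := IsUnit.of_mul_eq_one (residue V₁ ((u₁⁻¹ : V₁ˣ) : V₁) ⊗ₜ residue B (uB : B)) (by
    rw [Algebra.TensorProduct.tmul_mul_tmul, ← map_mul, ← map_mul, Units.mul_inv, Units.inv_mul, map_one, map_one]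
    rfl)
  let R₁ := AdjoinRoot (X ^ e - C c)
  haveI : IsSemisimpleRing R₁ := isSemisimpleRing_adjoinRoot _ _ _ he hc
  have hx₁ : eval₂ G.toRingHom (mkP (Ideal.Quotient.mk J X)) (X ^ e - C c) = 0 := by
    rw [eval₂_sub, eval₂_X_pow, eval₂_C]
    show _ - G c = 0
    rw [hG]
    have h1 : Ideal.Quotient.mk J r₁ = 0 := Ideal.Quotient.eq_zero_iff_mem.mpr (Ideal.subset_span (Or.inl rfl))
    rw [map_sub, map_pow] at h1
    have h1' := congrArg mkP h1
    rw [map_sub, map_pow, map_zero] at h1'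
    exact h1'
  haveI : IsSemisimpleRing Rb := by
    refine RingHom.isSemisimpleRing_of_surjective (AdjoinRoot.lift G.toRingHom _ hx₁) fun z => ?_
    obtain ⟨r, rfl⟩ := Ideal.Quotient.mk_surjective z
    obtain ⟨r, rfl⟩ := Ideal.Quotient.mk_surjective r
    show mkP (Ideal.Quotient.mk J r) ∈ (AdjoinRoot.lift G.toRingHom _ hx₁).range
    induction r using Polynomial.induction_on' with
    | add a b ha hb => rw [map_add, map_add]; exact add_mem ha hb
    | monomial n a =>
      rw [← C_mul_X_pow_eq_monomial, map_mul, map_mul, map_pow, map_pow]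
      have hroot : mkP (Ideal.Quotient.mk J X) ∈ (AdjoinRoot.lift G.toRingHom _ hx₁).range :=
        ⟨AdjoinRoot.root _, AdjoinRoot.lift_root _⟩
      refine mul_mem ?_ (pow_mem hroot n)
      show q a ∈ _
      induction a using TensorProduct.induction_on with
      | zero => rw [map_zero]; exact zero_mem _
      | add a b ha hb => rw [map_add]; exact add_mem ha hb
      | tmul b v => exact ⟨AdjoinRoot.of _ (residue V₁ v ⊗ₜ residue B b), (AdjoinRoot.lift_of _).trans (hG b v)⟩
  have hϖu : ¬ IsUnit (ι' ϖ) := fun h => hϖ.not_isUnit (isUnit_of_map_unit (inclOfComap W f) ϖ h)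
  have hgenR : ∀ x : M, x ∈ Subfield.closure ((W.subtype.comp ψ).range : Set M) := by
    intro x
    let S := (W.subtype.comp ψ).range
    have hψgen : ∀ b v, ((algebraMap B W b * ι' v : W) : M) ∈ S := fun b v =>
      ⟨ofR (b ⊗ₜ v), congrArg Subtype.val ((hψof _).trans (hψ₀ b v))⟩
    have hK₁ : ∀ z : K₁, f z ∈ Subfield.closure (S : Set M) := fun z => by
      rcases V₁.mem_or_inv_mem z with hz | hz
      · exact Subfield.subset_closure (by
          have := hψgen 1 ⟨z, hz⟩; rwa [map_one, one_mul] at this)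
      · have h1 : f z⁻¹ ∈ Subfield.closure (S : Set M) := Subfield.subset_closure (by
          have := hψgen 1 ⟨z⁻¹, hz⟩; rwa [map_one, one_mul] at this)
        simpa using inv_mem h1
    have hB : ∀ b : B, algebraMap L M (algebraMap B L b) ∈ Subfield.closure (S : Set M) := fun b =>
      Subfield.subset_closure (by
        have := hψgen b 1; rwa [map_one, mul_one] at this)
    have hx : x ∈ Algebra.adjoin L (Set.range f) := hgen ▸ Algebra.mem_top
    induction hx using Algebra.adjoin_induction with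
    | mem y hy => obtain ⟨z, rfl⟩ := hy; exact hK₁ z
    | algebraMap l =>
      obtain ⟨a, b, -, rfl⟩ := IsFractionRing.div_surjective (A := B) l
      rw [map_div₀]
      exact div_mem (hB a) (hB b)
    | add y z _ _ hy hz => exact add_mem hy hz
    | mul y z _ _ hy hz => exact mul_mem hy hz
  have hsep : ∀ x : W, x ≠ 0 → ∃ N : ℕ, x ∣ ψ P ^ N := fun x hx => by
    obtain ⟨N, hN⟩ := hsepW hρ x hx
    refine ⟨(e * d) * N, hN.trans ?_⟩
    rw [hψP, pow_mul]
    refine pow_dvd_pow_of_dvd ?_ N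
    refine (dvd_pow_self ρW he0).trans ?_
    have h1 : ρW ^ e ∣ ι' ϖ ^ (e * d) * ι' u₁ := ⟨algebraMap B W uB, by
      rw [← map_pow, ← map_mul, hu₁, ι'.commutes, hπW.1]⟩
    exact (u₁.isUnit.map ι').dvd_mul_right.mp h1
  obtain ⟨hmax, hres⟩ := local_data W ψ P (by rw [hψP]; exact (map_ne_zero_iff ι' hι'inj).mpr hϖ.ne_zero)
    (by rw [hψP]; exact hϖu) hsep hgenR
  refine ⟨?_, ?_⟩
  · show (maximalIdeal V₁).map (inclOfComap W f) = maximalIdeal W
    rw [hϖ.maximalIdeal_eq, Ideal.map_span, Set.image_singleton, hmax, hψP]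
    rfl
  · letI : Algebra (ResidueField V₁) (ResidueField W) := (ResidueField.map (inclOfComap W f)).toAlgebra
    letI : Algebra (ResidueField A) (ResidueField W) :=
      ((algebraMap (ResidueField V₁) (ResidueField W)).comp (algebraMap (ResidueField A) (ResidueField V₁))).toAlgebra
    haveI : IsScalarTower (ResidueField A) (ResidueField V₁) (ResidueField W) :=
      IsScalarTower.of_algebraMap_eq fun _ => rfl
    let H₂ : ResidueField B →ₐ[ResidueField A] ResidueField W :=
      { ResidueField.map (algebraMap B W) with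
        commutes' := fun c => by
          obtain ⟨a, rfl⟩ := residue_surjective c
          show residue W (algebraMap B W (algebraMap A B a)) = residue W (ι' (algebraMap A V₁ a))
          rw [ι'.commutes, ← IsScalarTower.algebraMap_apply] }
    let h₀ : ResidueField V₁ ⊗[ResidueField A] ResidueField B →ₐ[ResidueField V₁] ResidueField W :=
      Algebra.TensorProduct.lift (Algebra.ofId _ _) H₂ fun _ _ => Commute.all _ _
    have hh₀ : ∀ b v, h₀ (residue V₁ v ⊗ₜ residue B b) = residue W (ψ₀ (b ⊗ₜ v)) := fun b v => by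
      show Algebra.TensorProduct.lift _ _ _ _ = _
      rw [Algebra.TensorProduct.lift_tmul, hψ₀, map_mul, mul_comm]
      rfl
    have hx₂ : eval₂ h₀.toRingHom (residue W t) (X ^ e - C c) = 0 := by
      rw [eval₂_sub, eval₂_X_pow, eval₂_C]
      show _ - h₀ c = 0
      rw [hh₀, hψ₀, ← map_pow, hte, sub_self]
    let g : R₁ →ₐ[ResidueField V₁] ResidueField W := AdjoinRoot.liftAlgHom _ h₀ (residue W t) hx₂
    haveI : Algebra.IsGeometricallyReduced (ResidueField V₁) R₁ := geomReduced_adjoinRoot _ _ _ he hc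
    refine geomReduced_quotient g fun y => ?_
    have hrange : ∀ r : R, residue W (ψ r) ∈ g.range := fun r => by
      obtain ⟨r, rfl⟩ := Ideal.Quotient.mk_surjective r
      induction r using Polynomial.induction_on' with
      | add a b ha hb => rw [map_add, map_add, map_add]; exact add_mem ha hb
      | monomial n a =>
        show residue W (eval₂ ψ₀.toRingHom t (monomial n a)) ∈ g.range
        rw [eval₂_monomial, map_mul, map_pow]
        have hroot : residue W t ∈ g.range := ⟨AdjoinRoot.root _, AdjoinRoot.lift_root (i := h₀.toRingHom) hx₂⟩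
        refine mul_mem ?_ (pow_mem hroot n)
        · show residue W (ψ₀ a) ∈ g.range
          induction a using TensorProduct.induction_on with
          | zero => rw [map_zero, map_zero]; exact zero_mem _
          | add a b ha hb => rw [map_add, map_add]; exact add_mem ha hb
          | tmul b v =>
            refine ⟨AdjoinRoot.of _ (residue V₁ v ⊗ₜ residue B b), ?_⟩
            show AdjoinRoot.lift h₀.toRingHom _ hx₂ _ = _
            rw [AdjoinRoot.lift_of]
            exact hh₀ b v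
    obtain ⟨r, s, hs, hy⟩ := hres y
    obtain ⟨a, ha⟩ := hrange r
    obtain ⟨b, hb⟩ := hrange s
    have hb0 : g b ≠ 0 := fun h => hs (hb.symm.trans h)
    haveI : (RingHom.ker g).IsPrime := RingHom.ker_isPrime g
    obtain ⟨c', i, hi, hci⟩ :=
      (IsArtinianRing.isMaximal_of_isPrime (RingHom.ker g)).exists_inv (show b ∉ RingHom.ker g from hb0)
    have h1 : g c' * g b = 1 := by
      rw [← map_mul, eq_sub_of_add_eq hci, map_sub, (RingHom.mem_ker.mp hi : g i = 0), map_one, sub_zero]
    refine ⟨a * c', ?_⟩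
    refine mul_right_cancel₀ hb0 ?_
    rw [map_mul, mul_assoc, h1, mul_one, show g a = residue W (ψ r) from ha, show g b = residue W (ψ s) from hb, hy]

end Groth.L05.Abhyankar
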