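import Groth.Agent.L05.SepResidueSol.Main
import Mathlib.RingTheory.AdjoinRoot
import Mathlib.FieldTheory.Separable
import Mathlib.FieldTheory.PerfectClosure

/-!
Adjoining an `e`-th root of a unit to a geometrically reduced algebra, `e` being invertible.
-/

set_option autoImplicit false
set_option linter.style.haveILetI false
set_option maxSynthPendingDepth 3

universe u

open Polynomial
open scoped TensorProduct

namespace Groth.L05.Abhyankar

/-- Adjoining an `e`-th root of a unit keeps a ring reduced when `e` is invertible. -/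
theorem isReduced_adjoinRoot {S : Type u} [CommRing S] [_root_.IsReduced S] {e : ℕ} (he : IsUnit (e : S))
    {c : S} (hc : IsUnit c) : _root_.IsReduced (AdjoinRoot (X ^ e - C c)) := by
  rcases subsingleton_or_nontrivial S with hS | hS
  · haveI := Module.subsingleton S (AdjoinRoot (X ^ e - C c))
    exact ⟨fun _ _ => Subsingleton.elim _ _⟩
  have he0 : e ≠ 0 := fun h => not_isUnit_zero (M₀ := S) (by simpa [h] using he)
  have hf : (X ^ e - C c).Monic := monic_X_pow_sub_C c he0
  refine ⟨fun y hy => ?_⟩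
  obtain ⟨n, hn⟩ := hy
  induction y using AdjoinRoot.induction_on with
  | ih g =>
    rw [← map_pow, AdjoinRoot.mk_eq_zero] at hn
    rw [AdjoinRoot.mk_eq_zero, ← modByMonic_eq_zero_iff_dvd hf]
    ext i
    rw [coeff_zero]
    refine IsNilpotent.eq_zero (nilpotent_iff_mem_prime.mpr fun J hJ => ?_)
    let ι := algebraMap S J.ResidueField
    have hsep : ((X ^ e - C c).map ι).Separable := by
      rw [Polynomial.map_sub, Polynomial.map_pow, map_X, map_C]
      exact separable_X_pow_sub_C _ (by rw [← map_natCast ι]; exact (he.map ι).ne_zero) (hc.map ι).ne_zero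
    have hdvd : (X ^ e - C c).map ι ∣ g.map ι := by
      refine hsep.squarefree.isRadical n _ ?_
      rw [← Polynomial.map_pow]
      exact Polynomial.map_dvd ι hn
    have h0 : (g %ₘ (X ^ e - C c)).map ι = 0 := by
      rw [map_modByMonic _ hf, modByMonic_eq_zero_iff_dvd (hf.map ι)]
      exact hdvd
    have h1 : ι ((g %ₘ (X ^ e - C c)).coeff i) = 0 := by rw [← coeff_map, h0, coeff_zero]
    rwa [Ideal.algebraMap_residueField_eq_zero] at h1

/-- Geometric reducedness in the perfect case. -/
theorem geomReduced_of_charZero (k κ : Type u) [Field k] [CharZero k] [Field κ] [Algebra k κ] :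
    Algebra.IsGeometricallyReduced k κ := by
  rw [Algebra.isGeometricallyReduced_field_iff]
  haveI := Groth.L03.GeomReduced2.isReduced_tensorProduct_of_perfectField (K := k) (A := κ) (Ω := AlgebraicClosure k)
  exact isReduced_of_injective (Algebra.TensorProduct.comm k (AlgebraicClosure k) κ)
    (Algebra.TensorProduct.comm k (AlgebraicClosure k) κ).injective

variable (k l κ : Type u) [Field k] [Field l] [Field κ] [Algebra k l] [Algebra k κ] [Module.Finite k l]
  [Algebra.IsGeometricallyReduced k κ] {e : ℕ}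

theorem isUnit_natCast (he : (e : k) ≠ 0) (S : Type u) [CommRing S] [Algebra k S] : IsUnit (e : S) := by
  rw [← map_natCast (algebraMap k S)]
  exact (isUnit_iff_ne_zero.mpr he).map _

/-- The semisimple algebra of an `e`-th root. -/
theorem isSemisimpleRing_adjoinRoot (he : (e : k) ≠ 0) {c : l ⊗[k] κ} (hc : IsUnit c) :
    IsSemisimpleRing (AdjoinRoot (X ^ e - C c)) := by
  haveI := Groth.L05.SepResidueSol.isSemisimpleRing_tensor k l κ
  haveI : _root_.IsReduced (AdjoinRoot (X ^ e - C c)) := isReduced_adjoinRoot (isUnit_natCast k he _) hc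
  have hf : (X ^ e - C c).Monic := monic_X_pow_sub_C c fun h => he (by simp [h])
  haveI : Module.Finite (l ⊗[k] κ) (AdjoinRoot (X ^ e - C c)) := (AdjoinRoot.powerBasis' hf).finite
  haveI : IsArtinianRing (AdjoinRoot (X ^ e - C c)) := IsArtinianRing.of_finite (l ⊗[k] κ) _
  exact IsArtinianRing.isSemisimpleRing_of_isReduced _

/-- The algebra of an `e`-th root is geometrically reduced. -/
theorem geomReduced_adjoinRoot (he : (e : k) ≠ 0) {c : l ⊗[k] κ} (hc : IsUnit c) :
    Algebra.IsGeometricallyReduced l (AdjoinRoot (X ^ e - C c)) := by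
  rw [Algebra.isGeometricallyReduced_field_iff]
  let Ω := AlgebraicClosure l
  let R₀ := l ⊗[k] κ
  let R₁ := AdjoinRoot (X ^ e - C c)
  haveI : _root_.IsReduced (Ω ⊗[k] κ) := Groth.L03.GeomReduced2.isReduced_of_isGeometricallyReduced Ω
  haveI : _root_.IsReduced (Ω ⊗[l] R₀) :=
    isReduced_of_injective (Algebra.TensorProduct.cancelBaseChange k l Ω Ω κ)
      (Algebra.TensorProduct.cancelBaseChange k l Ω Ω κ).injective
  let j : R₀ →ₐ[l] Ω ⊗[l] R₀ := Algebra.TensorProduct.includeRight
  let S₁ := AdjoinRoot (X ^ e - C (j c))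
  haveI : _root_.IsReduced S₁ := isReduced_adjoinRoot (isUnit_natCast k he _) (hc.map j)
  let of₁ : Ω ⊗[l] R₀ →ₐ[l] S₁ := IsScalarTower.toAlgHom l _ _
  let inc : Ω ⊗[l] R₀ →ₐ[l] Ω ⊗[l] R₁ :=
    Algebra.TensorProduct.map (AlgHom.id l Ω) (IsScalarTower.toAlgHom l R₀ R₁)
  have ha : eval₂ (of₁.comp j).toRingHom (AdjoinRoot.root (X ^ e - C (j c))) (X ^ e - C c) = 0 := by
    rw [eval₂_sub, eval₂_X_pow, eval₂_C]
    have h := AdjoinRoot.eval₂_root (X ^ e - C (j c))
    rw [eval₂_sub, eval₂_X_pow, eval₂_C] at h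
    exact h
  let a : R₁ →ₐ[l] S₁ := AdjoinRoot.liftAlgHom _ (of₁.comp j) (AdjoinRoot.root _) ha
  let F : Ω ⊗[l] R₁ →ₐ[l] S₁ :=
    Algebra.TensorProduct.lift (of₁.comp (Algebra.TensorProduct.includeLeft)) a fun _ _ => Commute.all _ _
  have hx : eval₂ inc.toRingHom ((1 : Ω) ⊗ₜ[l] AdjoinRoot.root (X ^ e - C c)) (X ^ e - C (j c)) = 0 := by
    rw [eval₂_sub, eval₂_X_pow, eval₂_C, Algebra.TensorProduct.tmul_pow, one_pow]
    show _ - inc (1 ⊗ₜ c) = 0
    rw [Algebra.TensorProduct.map_tmul, sub_eq_zero]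
    congr 1
    have h := AdjoinRoot.eval₂_root (X ^ e - C c)
    rw [eval₂_sub, eval₂_X_pow, eval₂_C, sub_eq_zero] at h
    exact h
  let Gh : S₁ →+* Ω ⊗[l] R₁ := AdjoinRoot.lift inc.toRingHom _ hx
  refine isReduced_of_injective F fun z z' h => ?_
  have hid : ∀ z, Gh (F z) = z := by
    intro z
    induction z using TensorProduct.induction_on with
    | zero => simp
    | add x y hx hy => rw [map_add, map_add, hx, hy]
    | tmul ω x =>
      rw [Algebra.TensorProduct.lift_tmul, map_mul]
      have h1 : Gh (of₁ (ω ⊗ₜ 1)) = ω ⊗ₜ 1 := by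
        show AdjoinRoot.lift _ _ hx (AdjoinRoot.of _ (ω ⊗ₜ 1)) = _
        rw [AdjoinRoot.lift_of]
        show inc _ = _
        rw [Algebra.TensorProduct.map_tmul, map_one]
        rfl
      have h2 : Gh.comp a.toRingHom = (Algebra.TensorProduct.includeRight : R₁ →ₐ[l] Ω ⊗[l] R₁).toRingHom := by
        refine Ideal.Quotient.ringHom_ext (Polynomial.ringHom_ext (fun r => ?_) ?_)
        · show Gh (a (AdjoinRoot.of _ r)) = 1 ⊗ₜ AdjoinRoot.of _ r
          have : a (AdjoinRoot.of _ r) = AdjoinRoot.of _ (j r) := by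
            show AdjoinRoot.lift _ _ ha _ = _
            rw [AdjoinRoot.lift_of]
            rfl
          rw [this]
          show AdjoinRoot.lift _ _ hx _ = _
          rw [AdjoinRoot.lift_of]
          show inc _ = _
          rw [Algebra.TensorProduct.includeRight_apply, Algebra.TensorProduct.map_tmul]
          rfl
        · show Gh (a (AdjoinRoot.root _)) = 1 ⊗ₜ AdjoinRoot.root _
          have : a (AdjoinRoot.root _) = AdjoinRoot.root _ := by
            show AdjoinRoot.lift _ _ ha _ = _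
            rw [AdjoinRoot.lift_root]
          rw [this]
          show AdjoinRoot.lift _ _ hx _ = _
          rw [AdjoinRoot.lift_root]
      have h3 : Gh (a x) = 1 ⊗ₜ x := RingHom.congr_fun h2 x
      show Gh (of₁ (ω ⊗ₜ 1)) * Gh (a x) = _
      rw [h1, h3, Algebra.TensorProduct.tmul_mul_tmul, one_mul, mul_one]
  rw [← hid z, ← hid z', h]

/-- A factor field of a semisimple geometrically reduced algebra is geometrically reduced. -/
theorem geomReduced_quotient {l R₁ E : Type u} [Field l] [CommRing R₁] [Algebra l R₁] [IsSemisimpleRing R₁]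
    [Algebra.IsGeometricallyReduced l R₁] [Field E] [Algebra l E]
    (g : R₁ →ₐ[l] E) (hg : Function.Surjective g) : Algebra.IsGeometricallyReduced l E := by
  rw [Algebra.isGeometricallyReduced_field_iff]
  let Ω := AlgebraicClosure l
  haveI : _root_.IsReduced (Ω ⊗[l] R₁) := (Algebra.isGeometricallyReduced_field_iff l R₁).mp ‹_›
  obtain ⟨q, hq, hker⟩ := IsSemisimpleRing.ideal_eq_span_idempotent (RingHom.ker g)
  let G : Ω ⊗[l] R₁ →ₐ[l] Ω ⊗[l] E := Algebra.TensorProduct.map (AlgHom.id l Ω) g
  have hG : RingHom.ker G = Ideal.span {(1 : Ω) ⊗ₜ[l] q} := by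
    rw [Algebra.TensorProduct.lTensor_ker g hg, hker, Ideal.map_span, Set.image_singleton]
    rfl
  have hq' : IsIdempotentElem ((1 : Ω) ⊗ₜ[l] q) := by
    show _ * _ = _
    rw [Algebra.TensorProduct.tmul_mul_tmul, one_mul, hq.eq]
  refine ⟨fun y hy => ?_⟩
  obtain ⟨n, hn⟩ := hy
  obtain ⟨z, rfl⟩ : ∃ z, G z = y := TensorProduct.map_surjective Function.surjective_id hg y
  rw [← map_pow, ← RingHom.mem_ker, hG, Ideal.mem_span_singleton] at hn
  obtain ⟨d, hd⟩ := hn
  have h1 : IsNilpotent (z * (1 - (1 : Ω) ⊗ₜ[l] q)) := by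
    refine ⟨n + 1, ?_⟩
    rw [mul_pow, pow_succ z, hd, hq'.one_sub.pow_succ_eq]
    linear_combination (-(z * d)) * hq'.eq
  have h2 := h1.eq_zero
  rw [← RingHom.mem_ker, hG, Ideal.mem_span_singleton]
  exact ⟨z, by linear_combination h2⟩

end Groth.L05.Abhyankar
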